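/-
Basic algebra of the formal double point `B[[x,y]]/(xy - π)` (ArLef.NodeAlg) and length / fixed-ideal lemmas.
-/
import Mathlib
import Groth.Prelude.Def_W4c2arithlefschetzNode

set_option autoImplicit false

universe u v

namespace Groth.Agent.ArLefLib

open ArLef

section General

variable {A : Type u} [CommRing A]

noncomputable def len (I : Ideal A) : ℕ∞ := Module.length A (A ⧸ I)

theorem len_top : len (⊤ : Ideal A) = 0 :=
  have : Subsingleton (A ⧸ (⊤ : Ideal A)) := Ideal.Quotient.subsingleton_iff.2 rfl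
  Module.length_eq_zero

/-- `len (aI + (b)) = len (a, b) + len (I + (b))` when `a` is regular modulo `b`. -/
theorem len_mul_ideal (a b : A) (I : Ideal A) (ha : ∀ x, b ∣ a * x → b ∣ x) :
    len (Ideal.span {a} * I ⊔ Ideal.span {b}) =
      len (Ideal.span ({a, b} : Set A)) + len (I ⊔ Ideal.span {b}) := by
  set K := Ideal.span {a} * I ⊔ Ideal.span {b}
  set J := Ideal.span ({a, b} : Set A)
  have hKJ : K ≤ J := sup_le ((Ideal.mul_le_left).trans (Ideal.span_mono (by simp)))
    (Ideal.span_mono (by simp))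
  let f : (A ⧸ (I ⊔ Ideal.span {b})) →ₗ[A] A ⧸ K :=
    Submodule.mapQ _ _ (LinearMap.mulLeft A a) (by
      refine sup_le (fun i hi => ?_) ?_
      · exact Ideal.mem_sup_left (Ideal.mul_mem_mul (Ideal.mem_span_singleton_self a) hi)
      · rw [Ideal.span_le, Set.singleton_subset_iff]
        exact Ideal.mem_sup_right (Ideal.mul_mem_left _ _ (Ideal.mem_span_singleton_self b)))
  let g : (A ⧸ K) →ₗ[A] A ⧸ J := Submodule.factor hKJ
  have hf : Function.Injective f := by
    rw [← LinearMap.ker_eq_bot, LinearMap.ker_eq_bot']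
    intro x hx
    obtain ⟨x, rfl⟩ := Submodule.Quotient.mk_surjective _ x
    simp only [f, Submodule.mapQ_apply, LinearMap.mulLeft_apply, Submodule.Quotient.mk_eq_zero] at hx
    obtain ⟨u, hu, w, hw, huw⟩ := Submodule.mem_sup.1 hx
    obtain ⟨i, hi, rfl⟩ := Ideal.mem_span_singleton_mul.1 hu
    obtain ⟨c, rfl⟩ := Ideal.mem_span_singleton.1 hw
    obtain ⟨d, hd⟩ := ha (x - i) ⟨c, by linear_combination -huw⟩
    rw [Submodule.Quotient.mk_eq_zero]
    exact Submodule.mem_sup.2 ⟨i, hi, b * d, Ideal.mem_span_singleton.2 (dvd_mul_right b d), by linear_combination -hd⟩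
  have hfg : Function.Exact f g := by
    rw [LinearMap.exact_iff]
    refine le_antisymm (fun y hy => ?_) ?_
    · obtain ⟨y, rfl⟩ := Submodule.Quotient.mk_surjective _ y
      have hy' : y ∈ J := (Submodule.Quotient.mk_eq_zero _).1 hy
      obtain ⟨c, d, rfl⟩ := Ideal.mem_span_pair.1 hy'
      refine ⟨Submodule.Quotient.mk c, ?_⟩
      simp only [f, Submodule.mapQ_apply, LinearMap.mulLeft_apply]
      rw [Submodule.Quotient.eq, show a * c - (c * a + d * b) = (-d) * b by ring]
      exact Ideal.mem_sup_right (Ideal.mul_mem_left _ _ (Ideal.mem_span_singleton_self b))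
    · rintro _ ⟨x, rfl⟩
      obtain ⟨x, rfl⟩ := Submodule.Quotient.mk_surjective _ x
      exact (Submodule.Quotient.mk_eq_zero _).2
        (Ideal.mul_mem_right _ _ (Ideal.subset_span (by simp)))
  unfold len
  rw [Module.length_eq_add_of_exact f g hf (Submodule.factor_surjective hKJ) hfg, add_comm]

/-- `len (a c, b) = len (a, b) + len (c, b)` when `a` is regular modulo `b`. -/
theorem len_mul (a c b : A) (ha : ∀ x, b ∣ a * x → b ∣ x) :
    len (Ideal.span ({a * c, b} : Set A)) =
      len (Ideal.span ({a, b} : Set A)) + len (Ideal.span ({c, b} : Set A)) := by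
  have := len_mul_ideal a b (Ideal.span {c}) ha
  rwa [Ideal.span_singleton_mul_span_singleton, ← Ideal.span_insert, ← Ideal.span_insert] at this

theorem len_pow (a b : A) (ha : ∀ x, b ∣ a * x → b ∣ x) : ∀ n : ℕ,
    len (Ideal.span ({a ^ n, b} : Set A)) = n * len (Ideal.span ({a, b} : Set A))
  | 0 => by
    rw [pow_zero, Nat.cast_zero, zero_mul, Ideal.eq_top_of_isUnit_mem _
      (Ideal.subset_span (Set.mem_insert 1 _)) isUnit_one, len_top]
  | n + 1 => by
    rw [pow_succ', len_mul a _ b ha, len_pow a b ha n, Nat.cast_succ, add_mul, one_mul, add_comm]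

/-- A prime not dividing `a` is regular modulo `a`. -/
theorem reg_mod {p a : A} (hp : (Ideal.span {p}).IsPrime) (hreg : IsLeftRegular p) (h : ¬ p ∣ a)
    (x : A) (hx : a ∣ p * x) : a ∣ x := by
  obtain ⟨y, hy⟩ := hx
  have : a * y ∈ Ideal.span {p} := Ideal.mem_span_singleton.2 ⟨x, hy.symm⟩
  obtain ⟨z, rfl⟩ := Ideal.mem_span_singleton.1
    ((hp.mem_or_mem this).resolve_left (fun h' => h (Ideal.mem_span_singleton.1 h')))
  exact ⟨z, hreg (hy.trans (by ring))⟩

theorem fix_zero (σ : A → A) (h : ∀ r, σ r = r) : fixIdeal σ = ⊥ := by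
  rw [fixIdeal, Ideal.span_eq_bot]
  rintro _ ⟨r, rfl⟩
  simp [h]

theorem sub_mem_fix (σ : A → A) (r : A) : σ r - r ∈ fixIdeal σ := Ideal.subset_span ⟨r, rfl⟩

/-- If every `r` is `b + t r₁ + e r₂` with `σ b - b ∈ J`, then `σ r - r ∈ J` for all `r`. -/
theorem fix_le [IsNoetherianRing A] [IsLocalRing A] (σ : A →+* A) (J : Ideal A) (C : Set A) (t e : A)
    (htm : t ∈ IsLocalRing.maximalIdeal A) (hem : e ∈ IsLocalRing.maximalIdeal A)
    (hdec : ∀ r, ∃ b ∈ C, ∃ r₁ r₂, r = b + t * r₁ + e * r₂)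
    (hC : ∀ b ∈ C, σ b - b ∈ J) (ht : σ t - t ∈ J) (he : σ e - e ∈ J) : fixIdeal σ ≤ J := by
  set M := IsLocalRing.maximalIdeal A
  have key : ∀ n : ℕ, ∀ r, σ r - r ∈ J ⊔ M ^ n := by
    intro n
    induction n with
    | zero => intro r; simp [Ideal.one_eq_top]
    | succ n ih =>
      intro r
      obtain ⟨b, hb, r₁, r₂, rfl⟩ := hdec r
      have hstep : ∀ m ∈ M, ∀ y, σ m - m ∈ J → σ (m * y) - m * y ∈ J ⊔ M ^ (n + 1) := by
        intro m hm y hmJ
        rw [map_mul, show σ m * σ y - m * y = (σ m - m) * σ y + m * (σ y - y) by ring]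
        refine add_mem (Ideal.mem_sup_left (Ideal.mul_mem_right _ _ hmJ)) ?_
        obtain ⟨j, hj, w, hw, hjw⟩ := Submodule.mem_sup.1 (ih y)
        rw [← hjw, mul_add]
        refine add_mem (Ideal.mem_sup_left (Ideal.mul_mem_left _ _ hj)) (Ideal.mem_sup_right ?_)
        rw [pow_succ']
        exact Ideal.mul_mem_mul hm hw
      rw [map_add, map_add, show σ b + σ (t * r₁) + σ (e * r₂) - (b + t * r₁ + e * r₂) =
        (σ b - b) + (σ (t * r₁) - t * r₁) + (σ (e * r₂) - e * r₂) by ring]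
      exact add_mem (add_mem (Ideal.mem_sup_left (hC b hb)) (hstep t htm r₁ ht)) (hstep e hem r₂ he)
  by_cases hJ : J = ⊤
  · simp [hJ]
  refine Ideal.span_le.2 ?_
  rintro _ ⟨r, rfl⟩
  have : Nontrivial (A ⧸ J) := Ideal.Quotient.nontrivial_iff.2 hJ
  have : IsLocalRing (A ⧸ J) := IsLocalRing.of_surjective' _ Ideal.Quotient.mk_surjective
  have h0 : Ideal.Quotient.mk J (σ r - r) ∈ ⨅ n : ℕ, IsLocalRing.maximalIdeal (A ⧸ J) ^ n := by
    rw [Ideal.mem_iInf]
    intro n
    obtain ⟨j, hj, w, hw, hjw⟩ := Submodule.mem_sup.1 (key n r)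
    rw [← hjw, map_add, Ideal.Quotient.eq_zero_iff_mem.2 hj, zero_add]
    refine Ideal.pow_right_mono (?_ : M.map (Ideal.Quotient.mk J) ≤ _) n ?_
    · refine Ideal.map_le_iff_le_comap.2 fun x hx => ?_
      rw [Ideal.mem_comap, IsLocalRing.mem_maximalIdeal]
      intro hu
      obtain ⟨y, hy⟩ := Ideal.Quotient.mk_surjective (hu.unit⁻¹ : (A ⧸ J)ˣ).1
      have h1 : x * y - 1 ∈ J := by
        rw [← Ideal.Quotient.eq, map_mul, hy, map_one]
        exact hu.mul_val_inv
      have : (x * y - 1) ∈ M := (IsLocalRing.le_maximalIdeal hJ) h1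
      exact (IsLocalRing.maximalIdeal.isMaximal A).ne_top ((Ideal.eq_top_iff_one _).2 (by
        have := sub_mem (M.mul_mem_right y hx) this
        rwa [sub_sub_cancel] at this))
    · rw [← Ideal.map_pow]
      exact Ideal.mem_map_of_mem _ hw
  have h1 := (Ideal.iInf_pow_eq_bot_of_isLocalRing
    (I := IsLocalRing.maximalIdeal (A ⧸ J)) (IsLocalRing.maximalIdeal.isMaximal (A ⧸ J)).ne_top)
  exact Ideal.Quotient.eq_zero_iff_mem.1 ((Submodule.mem_bot _).1 (h1.le h0))

end General

section Node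

variable {B : Type u} [CommRing B] (π : B)

/-- setting the variable other than `j` to zero -/
noncomputable def toPS (j : Fin 2) : MvPowerSeries (Fin 2) B →+* PowerSeries B where
  toFun f := PowerSeries.mk fun n => MvPowerSeries.coeff (Finsupp.single j n) f
  map_zero' := by ext; simp
  map_one' := by
    ext n
    simp [MvPowerSeries.coeff_one, PowerSeries.coeff_one]
  map_add' f g := by ext; simp
  map_mul' f g := by
    classical
    ext n
    rw [PowerSeries.coeff_mul, PowerSeries.coeff_mk, MvPowerSeries.coeff_mul,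
      Finsupp.antidiagonal_single, Finset.sum_map]
    simp

noncomputable def ofPS (j : Fin 2) (g : PowerSeries B) : MvPowerSeries (Fin 2) B :=
  fun m => if m = Finsupp.single j (m j) then PowerSeries.coeff (m j) g else 0

theorem eq_single_iff {i j : Fin 2} (hij : i ≠ j) (m : Fin 2 →₀ ℕ) :
    m = Finsupp.single j (m j) ↔ m i = 0 := by
  constructor
  · intro h; rw [h, Finsupp.single_eq_of_ne' hij.symm]
  · intro h
    ext k
    by_cases hk : k = j
    · subst hk; simp
    · have : k = i := by omega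
      subst this
      rw [h, Finsupp.single_eq_of_ne' hij.symm]

theorem X_dvd_sub {i j : Fin 2} (hij : i ≠ j) (f : MvPowerSeries (Fin 2) B) :
    MvPowerSeries.X i ∣ f - ofPS j (toPS j f) := by
  rw [MvPowerSeries.X_dvd_iff]
  intro m hm
  rw [map_sub, sub_eq_zero]
  change MvPowerSeries.coeff m f = ofPS j (toPS j f) m
  rw [ofPS, if_pos ((eq_single_iff hij m).2 hm)]
  simp only [toPS, RingHom.coe_mk, MonoidHom.coe_mk, OneHom.coe_mk, PowerSeries.coeff_mk]
  rw [← (eq_single_iff hij m).2 hm]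

@[simp] theorem toPS_C (j : Fin 2) (b : B) : toPS j (MvPowerSeries.C b) = PowerSeries.C b := by
  classical
  ext n
  simp [toPS, MvPowerSeries.coeff_C, PowerSeries.coeff_C]

theorem toPS_X_self (j : Fin 2) : toPS j (MvPowerSeries.X j : MvPowerSeries (Fin 2) B) = PowerSeries.X := by
  classical
  ext n
  simp [toPS, MvPowerSeries.coeff_X, PowerSeries.coeff_X, (Finsupp.single_injective j).eq_iff]

theorem toPS_X_ne {i j : Fin 2} (hij : i ≠ j) :
    toPS j (MvPowerSeries.X i : MvPowerSeries (Fin 2) B) = 0 := by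
  classical
  ext n
  simp only [toPS, RingHom.coe_mk, MonoidHom.coe_mk, OneHom.coe_mk, PowerSeries.coeff_mk, map_zero,
    MvPowerSeries.coeff_X]
  rw [if_neg]
  intro h
  have := congrArg (fun m : Fin 2 →₀ ℕ => m i) h
  simp [Finsupp.single_eq_of_ne' hij.symm] at this

/-- the class of a variable -/
noncomputable abbrev v (i : Fin 2) : NodeAlg B π := Ideal.Quotient.mk _ (MvPowerSeries.X i)

theorem algebraMap_mk (b : B) :
    algebraMap B (NodeAlg B π) b = Ideal.Quotient.mk _ (MvPowerSeries.C b) := rfl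

theorem t_mul_e : NodeAlg.t π * NodeAlg.e π = algebraMap B (NodeAlg B π) π := by
  rw [algebraMap_mk, NodeAlg.t, NodeAlg.e, ← map_mul, Ideal.Quotient.eq]
  exact Ideal.mem_span_singleton_self _

theorem v_mul {i j : Fin 2} (hij : i ≠ j) : v π i * v π j = algebraMap B (NodeAlg B π) π := by
  fin_cases i <;> fin_cases j <;> simp_all <;> first | exact t_mul_e π | (rw [mul_comm]; exact t_mul_e π)

theorem rel_eq {i j : Fin 2} (hij : i ≠ j) :
    (MvPowerSeries.X 0 * MvPowerSeries.X 1 - MvPowerSeries.C π : MvPowerSeries (Fin 2) B) =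
      MvPowerSeries.X i * MvPowerSeries.X j - MvPowerSeries.C π := by
  fin_cases i <;> fin_cases j <;> simp_all [mul_comm]

/-- restriction to the branch with coordinate `v j` -/
noncomputable def ev (j : Fin 2) : NodeAlg B π →+* PowerSeries (B ⧸ Ideal.span {π}) :=
  Ideal.Quotient.lift _ ((PowerSeries.map (Ideal.Quotient.mk (Ideal.span {π}))).comp (toPS j))
    (fun a ha => by
      obtain ⟨c, rfl⟩ := Ideal.mem_span_singleton.1 ha
      obtain ⟨i, hi⟩ : ∃ i, i ≠ j := exists_ne j
      have hπ : Ideal.Quotient.mk (Ideal.span {π}) π = 0 :=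
        Ideal.Quotient.eq_zero_iff_mem.2 (Ideal.mem_span_singleton_self π)
      simp [rel_eq π hi, toPS_X_ne hi, hπ])

@[simp] theorem ev_v_self (j : Fin 2) : ev π j (v π j) = PowerSeries.X := by
  simp [ev, toPS_X_self]

theorem ev_v_ne {i j : Fin 2} (hij : i ≠ j) : ev π j (v π i) = 0 := by
  simp [ev, toPS_X_ne hij]

theorem ev_algebraMap (j : Fin 2) (b : B) :
    ev π j (algebraMap B (NodeAlg B π) b) = PowerSeries.C (Ideal.Quotient.mk _ b) := by
  simp [ev, algebraMap_mk]

theorem ev_surjective (j : Fin 2) : Function.Surjective (ev π j) := by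
  intro g
  choose c hc using fun n => Ideal.Quotient.mk_surjective (PowerSeries.coeff n g)
  refine ⟨Ideal.Quotient.mk _ (ofPS j (PowerSeries.mk c)), ?_⟩
  ext n
  simp only [ev, Ideal.Quotient.lift_mk, RingHom.comp_apply, PowerSeries.coeff_map, toPS,
    RingHom.coe_mk, MonoidHom.coe_mk, OneHom.coe_mk, PowerSeries.coeff_mk]
  change Ideal.Quotient.mk _ (ofPS j (PowerSeries.mk c) (Finsupp.single j n)) = _
  simp [ofPS, hc]

theorem ker_ev {i j : Fin 2} (hij : i ≠ j) : RingHom.ker (ev π j) = Ideal.span {v π i} := by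
  refine le_antisymm (fun r hr => ?_) ?_
  · obtain ⟨f, rfl⟩ := Ideal.Quotient.mk_surjective r
    have h : ∀ n, ∃ c, MvPowerSeries.coeff (Finsupp.single j n) f = π * c := by
      intro n
      have h := congrArg (PowerSeries.coeff n) (RingHom.mem_ker.1 hr)
      simp [ev, toPS, Ideal.Quotient.eq_zero_iff_mem, Ideal.mem_span_singleton] at h
      exact h
    choose c hc using h
    have h2 : toPS j f = PowerSeries.C π * PowerSeries.mk c := by
      ext n; simp [toPS, hc]
    have h3 : toPS j (f - MvPowerSeries.C π * ofPS j (PowerSeries.mk c)) = 0 := by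
      rw [map_sub, map_mul, toPS_C, h2, sub_eq_zero]
      congr 1
      ext n
      simp only [toPS, RingHom.coe_mk, MonoidHom.coe_mk, OneHom.coe_mk, PowerSeries.coeff_mk]
      change _ = ofPS j (PowerSeries.mk c) (Finsupp.single j n)
      simp [ofPS]
    have h4 := X_dvd_sub hij (f - MvPowerSeries.C π * ofPS j (PowerSeries.mk c))
    rw [h3] at h4
    obtain ⟨g, hg⟩ := h4
    have h0 : ofPS j (0 : PowerSeries B) = 0 := by
      funext m; simp [ofPS]; rfl
    rw [h0, sub_zero, sub_eq_iff_eq_add] at hg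
    rw [Ideal.mem_span_singleton, hg, map_add, map_mul, map_mul, ← algebraMap_mk,
      ← v_mul π hij, mul_assoc]
    exact dvd_add (dvd_mul_right _ _) (dvd_mul_right _ _)
  · rw [Ideal.span_le, Set.singleton_subset_iff]
    exact RingHom.mem_ker.2 (ev_v_ne π hij)

theorem v_dvd_iff {i j : Fin 2} (hij : i ≠ j) (r : NodeAlg B π) : v π i ∣ r ↔ ev π j r = 0 := by
  rw [← Ideal.mem_span_singleton, ← ker_ev π hij, RingHom.mem_ker]

variable [hk : IsDomain (B ⧸ Ideal.span {π})]

theorem prime_v (i : Fin 2) : (Ideal.span {v π i}).IsPrime := by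
  obtain ⟨j, hj⟩ := exists_ne i
  rw [← ker_ev π hj.symm]
  exact RingHom.ker_isPrime _

theorem not_dvd {i j : Fin 2} (hij : i ≠ j) (n : ℕ) : ¬ v π i ∣ v π j ^ n := by
  rw [v_dvd_iff π hij, map_pow, ev_v_self]
  exact pow_ne_zero n PowerSeries.X_ne_zero

theorem not_isUnit_v (i : Fin 2) : ¬ IsUnit (v π i) := by
  intro h
  obtain ⟨j, hj⟩ := exists_ne i
  exact not_dvd π hj.symm 0 (h.dvd)

theorem len_v [hfield : (Ideal.span {π}).IsMaximal] :
    len (Ideal.span ({NodeAlg.t π, NodeAlg.e π} : Set (NodeAlg B π))) = 1 := by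
  let φ := (PowerSeries.constantCoeff).comp (ev π 1)
  have hφ : Function.Surjective φ := fun x => by
    obtain ⟨r, hr⟩ := ev_surjective π 1 (PowerSeries.C x)
    exact ⟨r, by simp [φ, hr]⟩
  have hker : RingHom.ker φ = Ideal.span ({NodeAlg.t π, NodeAlg.e π} : Set (NodeAlg B π)) := by
    refine le_antisymm (fun r hr => ?_) ?_
    · obtain ⟨g, hg⟩ : PowerSeries.X ∣ ev π 1 r := PowerSeries.X_dvd_iff.2 hr
      obtain ⟨s, rfl⟩ := ev_surjective π 1 g
      have h1 : r - NodeAlg.e π * s ∈ RingHom.ker (ev π 1) := by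
        rw [RingHom.mem_ker, map_sub, map_mul, hg, show NodeAlg.e π = v π 1 from rfl, ev_v_self, sub_self]
      rw [ker_ev π (show (0 : Fin 2) ≠ 1 by decide), Ideal.mem_span_singleton] at h1
      obtain ⟨c, hc⟩ := h1
      exact Ideal.mem_span_pair.2 ⟨c, s, by linear_combination -hc⟩
    · rw [Ideal.span_le]
      rintro x (rfl | rfl) <;> rw [SetLike.mem_coe, RingHom.mem_ker]
      · simp [φ, show NodeAlg.t π = v π 0 from rfl, ev_v_ne π (show (0 : Fin 2) ≠ 1 by decide)]
      · simp [φ, show NodeAlg.e π = v π 1 from rfl]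
  let _ : Field (B ⧸ Ideal.span {π}) := Ideal.Quotient.field _
  rw [← hker, len, Module.length_eq_one_iff, isSimpleModule_iff_isCoatom]
  exact Ideal.isMaximal_def.1 (RingHom.ker_isMaximal_of_surjective φ hφ)

theorem decomp (r : NodeAlg B π) : ∃ b ∈ Set.range (algebraMap B (NodeAlg B π)), ∃ r₁ r₂,
    r = b + NodeAlg.t π * r₁ + NodeAlg.e π * r₂ := by
  obtain ⟨f, rfl⟩ := Ideal.Quotient.mk_surjective r
  set c := MvPowerSeries.constantCoeff f
  obtain ⟨g, hg⟩ := X_dvd_sub (show (0 : Fin 2) ≠ 1 by decide) f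
  obtain ⟨h, hh⟩ : (MvPowerSeries.X 1 : MvPowerSeries (Fin 2) B) ∣ ofPS 1 (toPS 1 f) - MvPowerSeries.C c := by
    classical
    rw [MvPowerSeries.X_dvd_iff]
    intro m hm
    rw [map_sub, MvPowerSeries.coeff_C, sub_eq_zero]
    change ofPS 1 (toPS 1 f) m = _
    by_cases h0 : m = 0
    · subst h0
      simp [ofPS, toPS, c]
    · rw [if_neg h0, ofPS, if_neg]
      intro h
      rw [hm, Finsupp.single_zero] at h
      exact h0 h
  refine ⟨_, ⟨c, rfl⟩, Ideal.Quotient.mk _ g, Ideal.Quotient.mk _ h, ?_⟩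
  rw [algebraMap_mk, ← map_mul, ← map_mul, ← map_add, ← map_add]
  congr 1
  linear_combination hg + hh

theorem isLocalRing [IsLocalRing B] : IsLocalRing (NodeAlg B π) :=
  have : Nontrivial (NodeAlg B π) := (ev π 0).domain_nontrivial
  IsLocalRing.of_surjective' _ Ideal.Quotient.mk_surjective

theorem regular_v (hπ : IsLeftRegular π) (i : Fin 2) : IsLeftRegular (v π i) := by
  obtain ⟨j, hj⟩ := exists_ne i
  rw [isLeftRegular_iff_right_eq_zero_of_mul]
  intro r hr
  obtain ⟨f, rfl⟩ := Ideal.Quotient.mk_surjective r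
  rw [v, ← map_mul, Ideal.Quotient.eq_zero_iff_mem, rel_eq π hj.symm, Ideal.mem_span_singleton] at hr
  obtain ⟨G, hG⟩ := hr
  have h1 := congrArg (toPS j) hG
  simp only [map_mul, map_sub, toPS_X_ne hj.symm, zero_mul, zero_sub, toPS_C] at h1
  have h2 : toPS j G = 0 := by
    ext n
    have := congrArg (PowerSeries.coeff n) h1
    rw [neg_mul, map_zero, map_neg, PowerSeries.coeff_C_mul] at this
    exact hπ (show π * _ = π * 0 by rw [mul_zero]; exact neg_eq_zero.1 this.symm)
  obtain ⟨G', hG'⟩ := X_dvd_sub hj.symm G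
  rw [h2] at hG'
  have h0 : ofPS j (0 : PowerSeries B) = 0 := by funext m; simp [ofPS]; rfl
  rw [h0, sub_zero] at hG'
  subst hG'
  rw [Ideal.Quotient.eq_zero_iff_mem, rel_eq π hj.symm, Ideal.mem_span_singleton]
  refine ⟨G', ?_⟩
  have hreg : IsLeftRegular (MvPowerSeries.X i : MvPowerSeries (Fin 2) B) := by
    rw [isLeftRegular_iff_right_eq_zero_of_mul]
    intro F hF
    ext m
    have := congrArg (MvPowerSeries.coeff (Finsupp.single i 1 + m)) hF
    rw [MvPowerSeries.X, MvPowerSeries.coeff_add_monomial_mul, one_mul, map_zero] at this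
    simpa using this
  exact hreg (hG.trans (by ring))

end Node

end Groth.Agent.ArLefLib
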