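/-
DVR setup for ArLef.NodeAlg: fixed-ideal generators and length computations.
-/
import Mathlib
import Groth.Agent.ArLef.Node

set_option autoImplicit false

universe u v

namespace Groth.Agent.ArLefLib

open ArLef

section DVR

variable {B : Type u} [CommRing B] [IsDomain B] [IsDiscreteValuationRing B] {π : B}

theorem span_pi_maximal (hπ : Irreducible π) : (Ideal.span {π}).IsMaximal := by
  rw [← hπ.maximalIdeal_eq]; exact IsLocalRing.maximalIdeal.isMaximal B

theorem node_setup (hπ : Irreducible π) :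
    (Ideal.span {π}).IsMaximal ∧ IsDomain (B ⧸ Ideal.span {π}) ∧ IsLocalRing (NodeAlg B π) ∧
      (∀ i, IsLeftRegular (v π i)) :=
  have h := span_pi_maximal hπ
  have hd : IsDomain (B ⧸ Ideal.span {π}) := (Ideal.Quotient.isDomain_iff_prime _).2 h.isPrime
  ⟨h, hd, isLocalRing π, regular_v π (IsLeftCancelMulZero.mul_left_cancel_of_ne_zero hπ.ne_zero)⟩

theorem regular_mul_pow (hπ : Irreducible π) (m n : ℕ) :
    IsLeftRegular (NodeAlg.t π ^ m * NodeAlg.e π ^ n) := by
  obtain ⟨-, -, -, hreg⟩ := node_setup hπ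
  exact ((hreg 0).pow m).mul ((hreg 1).pow n)

theorem mem_max [IsLocalRing (NodeAlg B π)] [IsDomain (B ⧸ Ideal.span {π})] (i : Fin 2) :
    v π i ∈ IsLocalRing.maximalIdeal (NodeAlg B π) := not_isUnit_v π i

/-- `σ r - r ∈ J` for all `r` as soon as it holds on `B`, `t`, `e`. -/
theorem node_fix_le (hπ : Irreducible π) (σ : NodeAlg B π →+* NodeAlg B π) (J : Ideal (NodeAlg B π))
    (hB : ∀ b : B, σ (algebraMap B (NodeAlg B π) b) - algebraMap B (NodeAlg B π) b ∈ J)
    (ht : σ (NodeAlg.t π) - NodeAlg.t π ∈ J) (he : σ (NodeAlg.e π) - NodeAlg.e π ∈ J) :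
    fixIdeal σ ≤ J := by
  obtain ⟨hmax, hdom, hloc, -⟩ := node_setup hπ
  exact fix_le σ J (Set.range (algebraMap B (NodeAlg B π))) (NodeAlg.t π) (NodeAlg.e π)
    (mem_max 0) (mem_max 1) (decomp π) (by rintro _ ⟨b, rfl⟩; exact hB b) ht he

/-- the relation of the multipliers of `σ` -/
theorem mul_units_eq (hπ : Irreducible π) (j : ℕ) (hj : 1 ≤ j) (γ : B)
    (σ : NodeAlg B π →+* NodeAlg B π)
    (hσπ : σ (algebraMap B (NodeAlg B π) π) = algebraMap B (NodeAlg B π) (π + γ * π ^ j))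
    (x y : NodeAlg B π)
    (hxy : σ (NodeAlg.t π) * σ (NodeAlg.e π) = x * y * (NodeAlg.t π * NodeAlg.e π)) :
    x * y - 1 = algebraMap B (NodeAlg B π) γ * (NodeAlg.t π * NodeAlg.e π) ^ (j - 1) := by
  have hr : IsLeftRegular (NodeAlg.t π * NodeAlg.e π) := by
    simpa using regular_mul_pow hπ 1 1
  apply hr
  have h1 : σ (NodeAlg.t π) * σ (NodeAlg.e π) =
      NodeAlg.t π * NodeAlg.e π +
        algebraMap B (NodeAlg B π) γ * (NodeAlg.t π * NodeAlg.e π) ^ j := by
    rw [← map_mul, t_mul_e, hσπ, map_add, map_mul, map_pow]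
  obtain ⟨m, rfl⟩ := Nat.exists_eq_add_of_le hj
  rw [hxy] at h1
  simp only [add_tsub_cancel_left]
  linear_combination h1

theorem len_core_aux (hπ : Irreducible π) (m n : ℕ) (a : NodeAlg B π)
    (hta : 0 < m → ¬ NodeAlg.t π ∣ a) (hea : ¬ NodeAlg.e π ∣ a) :
    len (Ideal.span ({NodeAlg.t π ^ m * NodeAlg.e π ^ n, a} : Set (NodeAlg B π))) =
      m * len (Ideal.span ({NodeAlg.t π, a} : Set (NodeAlg B π))) +
      n * len (Ideal.span ({NodeAlg.e π, a} : Set (NodeAlg B π))) := by
  obtain ⟨hmax, hdom, hloc, hreg⟩ := node_setup hπ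
  have he := reg_mod (prime_v π 1) (hreg 1) hea
  rcases Nat.eq_zero_or_pos m with rfl | hm
  · rw [pow_zero, one_mul, Nat.cast_zero, zero_mul, zero_add, len_pow _ _ he]
  · have ht := reg_mod (prime_v π 0) (hreg 0) (hta hm)
    have htm : ∀ k, ∀ x, a ∣ NodeAlg.t π ^ k * x → a ∣ x := by
      intro k
      induction k with
      | zero => intro x hx; simpa using hx
      | succ k ih => intro x hx; exact ih x (ht _ (by rw [← mul_assoc, ← pow_succ']; exact hx))
    rw [len_mul _ _ _ (htm m), len_pow _ _ ht, len_pow _ _ he]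

theorem len_pair_mul (hπ : Irreducible π) (a b : NodeAlg B π) (htb : ¬ NodeAlg.t π ∣ b)
    (hea : ¬ NodeAlg.e π ∣ a) :
    len (Ideal.span ({a * NodeAlg.t π, b * NodeAlg.e π} : Set (NodeAlg B π))) =
      len (Ideal.span ({a, b} : Set (NodeAlg B π))) +
      len (Ideal.span ({NodeAlg.e π, a} : Set (NodeAlg B π))) +
      len (Ideal.span ({NodeAlg.t π, b} : Set (NodeAlg B π))) + 1 := by
  obtain ⟨hmax, hdom, hloc, hreg⟩ := node_setup hπ
  have hpt := prime_v π 0
  have hne : ¬ NodeAlg.t π ∣ NodeAlg.e π := by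
    simpa using not_dvd π (show (0 : Fin 2) ≠ 1 by decide) 1
  have htbe : ¬ NodeAlg.t π ∣ b * NodeAlg.e π := fun h => by
    rcases hpt.mem_or_mem (Ideal.mem_span_singleton.2 h) with h | h
    · exact htb (Ideal.mem_span_singleton.1 h)
    · exact hne (Ideal.mem_span_singleton.1 h)
  have het : ¬ NodeAlg.e π ∣ NodeAlg.t π := by
    simpa using not_dvd π (show (1 : Fin 2) ≠ 0 by decide) 1
  rw [mul_comm a (NodeAlg.t π), mul_comm b (NodeAlg.e π)]
  rw [len_mul (NodeAlg.t π) a (NodeAlg.e π * b) (reg_mod hpt (hreg 0)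
    (fun h => htbe (h.trans (dvd_of_eq (mul_comm (NodeAlg.e π) b)))))]
  rw [Set.pair_comm (NodeAlg.t π) (NodeAlg.e π * b), Set.pair_comm a (NodeAlg.e π * b)]
  rw [len_mul (NodeAlg.e π) b (NodeAlg.t π) (reg_mod (prime_v π 1) (hreg 1) het)]
  rw [len_mul (NodeAlg.e π) b a (reg_mod (prime_v π 1) (hreg 1) hea)]
  rw [Set.pair_comm (NodeAlg.e π) (NodeAlg.t π), len_v π, Set.pair_comm b (NodeAlg.t π),
    Set.pair_comm b a]
  ring

theorem span_pair_congr {A : Type v} [CommRing A] (α : Aˣ) (a b z : A) (h : (α : A) * b + a = z) :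
    Ideal.span ({a, b} : Set A) = Ideal.span ({z, a} : Set A) := by
  refine le_antisymm ?_ ?_ <;> rw [Ideal.span_le] <;> rintro x (rfl | rfl)
  · exact Ideal.subset_span (by simp)
  · refine Ideal.mem_span_pair.2 ⟨((α⁻¹ : Aˣ) : A), -((α⁻¹ : Aˣ) : A), ?_⟩
    have := congrArg (fun w => ((α⁻¹ : Aˣ) : A) * w) h
    simp only [mul_add, ← mul_assoc, Units.inv_mul, one_mul] at this
    linear_combination -this
  · exact Ideal.mem_span_pair.2 ⟨1, α, by rw [← h]; ring⟩
  · exact Ideal.subset_span (by simp)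

/-- length of `(a t, b e)` when `α b + a = c t^m e^n`. -/
theorem len_core (hπ : Irreducible π) (m n : ℕ) (a b : NodeAlg B π) (α : (NodeAlg B π)ˣ)
    (c : (NodeAlg B π)ˣ)
    (hrel : (α : NodeAlg B π) * b + a = (c : NodeAlg B π) * (NodeAlg.t π ^ m * NodeAlg.e π ^ n))
    (htb : ¬ NodeAlg.t π ∣ b) (hea : ¬ NodeAlg.e π ∣ a) :
    len (Ideal.span ({a * NodeAlg.t π, b * NodeAlg.e π} : Set (NodeAlg B π))) =
      1 + ((m : ℕ∞) + 1) * len (Ideal.span ({NodeAlg.t π, b} : Set (NodeAlg B π))) +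
      ((n : ℕ∞) + 1) * len (Ideal.span ({NodeAlg.e π, a} : Set (NodeAlg B π))) := by
  rw [len_pair_mul hπ a b htb hea, span_pair_congr α a b _ hrel, Ideal.span_insert,
    Ideal.span_singleton_mul_left_unit c.isUnit, ← Ideal.span_insert]
  have hta : 0 < m → ¬ NodeAlg.t π ∣ a := by
    intro hm h
    refine htb ((Units.dvd_mul_left (u := α)).1 ?_)
    have h2 : NodeAlg.t π ∣ (c : NodeAlg B π) * (NodeAlg.t π ^ m * NodeAlg.e π ^ n) :=
      Dvd.dvd.mul_left (Dvd.dvd.mul_right (dvd_pow_self _ hm.ne') _) _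
    rw [← hrel] at h2
    exact (dvd_add_left h).1 h2
  rw [len_core_aux hπ m n a hta hea]
  rcases Nat.eq_zero_or_pos m with rfl | hm
  · simp only [Nat.cast_zero, zero_mul, zero_add, one_mul]; ring
  · have : Ideal.span ({NodeAlg.t π, a} : Set (NodeAlg B π)) =
        Ideal.span ({NodeAlg.t π, b} : Set (NodeAlg B π)) := by
      obtain ⟨k, rfl⟩ := Nat.exists_eq_add_of_le hm
      refine le_antisymm ?_ ?_ <;> rw [Ideal.span_le] <;> rintro x (rfl | rfl)
      · exact Ideal.subset_span (by simp)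
      · refine Ideal.mem_span_pair.2 ⟨(c : NodeAlg B π) * (NodeAlg.t π ^ k * NodeAlg.e π ^ n), -(α : NodeAlg B π), ?_⟩
        rw [pow_add, pow_one] at hrel
        linear_combination -hrel
      · exact Ideal.subset_span (by simp)
      · refine Ideal.mem_span_pair.2 ⟨((α⁻¹ : (NodeAlg B π)ˣ) : NodeAlg B π) * ((c : NodeAlg B π) * (NodeAlg.t π ^ k * NodeAlg.e π ^ n)), -((α⁻¹ : (NodeAlg B π)ˣ) : NodeAlg B π), ?_⟩
        rw [pow_add, pow_one] at hrel
        have := congrArg (fun w => ((α⁻¹ : (NodeAlg B π)ˣ) : NodeAlg B π) * w) hrel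
        simp only [mul_add, ← mul_assoc, Units.inv_mul, one_mul] at this
        linear_combination -this
    rw [this]; ring

end DVR

theorem len_comap {R : Type u} {S : Type v} [CommRing R] [CommRing S] (φ : R →+* S)
    (hφ : Function.Surjective φ) (J : Ideal S) : len (J.comap φ) = len J := by
  let e : Set.Ici (J.comap φ) ≃o Set.Ici J :=
    { toFun := fun I => ⟨I.1.map φ, by
        have := Ideal.map_mono (f := φ) I.2
        rwa [Ideal.map_comap_of_surjective φ hφ] at this⟩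
      invFun := fun I => ⟨I.1.comap φ, Ideal.comap_mono I.2⟩
      left_inv := fun I => Subtype.ext (by
        simp only [Ideal.comap_map_of_surjective φ hφ, sup_eq_left]
        exact (Ideal.comap_mono bot_le).trans I.2)
      right_inv := fun I => Subtype.ext (Ideal.map_comap_of_surjective φ hφ I.1)
      map_rel_iff' := fun {I I'} => by
        refine ⟨fun h => ?_, fun h => Ideal.map_mono h⟩
        have h' := Ideal.comap_mono (f := φ) (show I.1.map φ ≤ I'.1.map φ from h)
        simp only [Ideal.comap_map_of_surjective φ hφ, sup_le_iff] at h'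
        refine h'.1.trans (sup_le le_rfl ?_)
        exact (Ideal.comap_mono bot_le).trans I'.2 }
  unfold len
  rw [← WithBot.coe_inj, Module.coe_length, Module.coe_length]
  exact Order.krullDim_eq_of_orderIso (((Submodule.comapMkQRelIso (J.comap φ)).trans e).trans
    (Submodule.comapMkQRelIso J).symm)

theorem colon_pair {A : Type v} [CommRing A] (D x y : A) (hD : IsLeftRegular D) :
    (Ideal.span ({D * x, D * y} : Set A)).colon ({D} : Set A) = Ideal.span ({x, y} : Set A) := by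
  ext r
  rw [Submodule.mem_colon_singleton, smul_eq_mul, Ideal.mem_span_pair, Ideal.mem_span_pair]
  constructor
  · rintro ⟨p, q, h⟩
    exact ⟨p, q, hD (by linear_combination h)⟩
  · rintro ⟨p, q, rfl⟩
    exact ⟨p, q, by ring⟩

end Groth.Agent.ArLefLib
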